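import Cfsg.Agent.Blocks.Defect
import Cfsg.Agent.Blocks.Height
import Mathlib.LinearAlgebra.Trace
import Mathlib.LinearAlgebra.Basis.VectorSpace
import Mathlib.LinearAlgebra.Matrix.ToLin

/-!
# Blocks with the least possible sum of squared degrees

The dimension of the image of a block idempotent over the residue field is at most the sum of the
squared degrees; when this is the least possible value the block algebra is a transitive
permutation module for `P × P`, `P` a Sylow subgroup, and so an element normalizing a subgroup
`Q ≤ P` at which the block survives acts on `Q` like an element of `P`.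
-/

set_option autoImplicit false
set_option linter.unusedSectionVars false
set_option linter.style.haveILetI false

namespace CfsgLib.MinimalBlock

open Cfsg CfsgLib.Blocks
open CfsgLib.BlockPairs (GA ga_ext)
open MonoidAlgebra (single)

universe u

section Lift

variable {M : Ideal AlgInt} [M.IsPrime] {ι κ : Type*} [Fintype ι] [Fintype κ]

open Classical in
/-- Vectors over the local ring independent after reduction are independent over `ℂ`. -/
theorem linearIndependent_lift (V : κ → ι → localRing M)
    (h : LinearIndependent (Res M) fun i : ι => fun j : κ => red M (V j i)) :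
    LinearIndependent ℂ fun i : ι => fun j : κ => (V j i : ℂ) := by
  let Vb : Matrix κ ι (Res M) := Matrix.of fun j i => red M (V j i)
  have hker : LinearMap.ker Vb.mulVecLin = ⊥ :=
    LinearMap.ker_eq_bot.2 (Matrix.mulVec_injective_iff.2 h)
  obtain ⟨L, hL⟩ := LinearMap.exists_leftInverse_of_injective Vb.mulVecLin hker
  choose B hB using fun i j => red_surjective (M := M) ((LinearMap.toMatrix' L) i j)
  let W : Matrix ι ι (localRing M) := Matrix.of B * Matrix.of V
  have hW : (red M).mapMatrix W = 1 := by
    have h1 : (Matrix.of B).map (red M) = LinearMap.toMatrix' L := by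
      ext i j; exact hB i j
    rw [RingHom.mapMatrix_apply, Matrix.map_mul, h1,
      show (Matrix.of V).map (red M) = Vb from rfl]
    apply Matrix.toLin'.injective
    rw [Matrix.toLin'_mul, Matrix.toLin'_toMatrix', Matrix.toLin'_one, Matrix.toLin'_apply']
    exact hL
  have hdet : IsUnit W.det := by
    rw [← red_ne_zero_iff, RingHom.map_det, hW, Matrix.det_one]
    exact one_ne_zero
  let WC : Matrix ι ι ℂ := (localRing M).subtype.mapMatrix W
  have hWC : IsUnit WC := by
    rw [Matrix.isUnit_iff_isUnit_det, ← RingHom.map_det]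
    exact hdet.map _
  refine (Matrix.mulVec_injective_iff (M := Matrix.of fun j i => (V j i : ℂ))).1 fun x y hxy => ?_
  refine Matrix.mulVec_injective_iff_isUnit.2 hWC ?_
  have hsplit : WC = ((Matrix.of B).map (localRing M).subtype) *
      (Matrix.of fun j i => (V j i : ℂ)) := by
    rw [show WC = W.map (localRing M).subtype from rfl, Matrix.map_mul]
    rfl
  show WC.mulVec x = WC.mulVec y
  rw [hsplit, ← Matrix.mulVec_mulVec, ← Matrix.mulVec_mulVec, hxy]

end Lift

variable {G : Type u} [Group G] [Fintype G] {M : Ideal AlgInt} [M.IsPrime] {p : ℕ} [Fact p.Prime]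

open Classical in
/-- The coefficient at `1` of a block idempotent. -/
theorem card_mul_blockCoeff_one (B : Set (IrrCharacter G)) :
    (Nat.card G : ℂ) * Cfsg.blockCoeff B 1 =
      ((∑ᶠ χ ∈ B, Cfsg.charDegree (χ : G → ℂ) ^ 2 : ℕ) : ℂ) := by
  rw [blockCoeff_eq_sum, ← mul_assoc, mul_inv_cancel₀ Characters.natCard_ne_zero, one_mul,
    finsum_irr_mem]
  push_cast
  refine Finset.sum_congr rfl fun χ _ => ?_
  split_ifs
  · rw [charDegree_cast, sq, ← charDegree_cast χ, Complex.conj_natCast]
  · rfl

theorem setIdemC_mul_self (B : Set (IrrCharacter G)) : setIdemC B * setIdemC B = setIdemC B := by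
  classical
  exact ctr_ext_omega fun ψ => by rw [map_mul, omega_setIdemC]; split_ifs <;> simp

open Classical in
theorem finrank_range_setIdemC (B : Set (IrrCharacter G)) :
    Module.finrank ℂ (LinearMap.range (LinearMap.mulLeft ℂ (setIdemC B : MonoidAlgebra ℂ G))) =
      ∑ᶠ χ ∈ B, Cfsg.charDegree (χ : G → ℂ) ^ 2 := by
  set e := (setIdemC B : MonoidAlgebra ℂ G)
  haveI : Module.Finite ℂ (MonoidAlgebra ℂ G) :=
    Module.Finite.equiv (MonoidAlgebra.coeffLinearEquiv ℂ : MonoidAlgebra ℂ G ≃ₗ[ℂ] (G →₀ ℂ)).symm
  have hee : IsIdempotentElem (LinearMap.mulLeft ℂ e) := by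
    show LinearMap.mulLeft ℂ e * LinearMap.mulLeft ℂ e = LinearMap.mulLeft ℂ e
    refine LinearMap.ext fun x => ?_
    show e * (e * x) = e * x
    rw [← mul_assoc, ← Subring.coe_mul, setIdemC_mul_self]
  have htr := (LinearMap.IsIdempotentElem.isProj_range _ hee).trace
  let b : Module.Basis G ℂ (MonoidAlgebra ℂ G) := Module.Basis.ofRepr (MonoidAlgebra.coeffLinearEquiv ℂ)
  rw [LinearMap.trace_eq_matrix_trace ℂ b, Matrix.trace] at htr
  have hdiag : ∀ g : G, (LinearMap.toMatrix b b (LinearMap.mulLeft ℂ e)).diag g =
      Cfsg.blockCoeff B 1 := by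
    intro g
    rw [Matrix.diag_apply, LinearMap.toMatrix_apply]
    have hb : b g = single g (1 : ℂ) := by
      apply (MonoidAlgebra.coeffLinearEquiv ℂ).injective
      simp [b]
    show ((e * b g)).coeff g = _
    rw [hb, MonoidAlgebra.coeff_mul_single_apply, mul_one, mul_inv_cancel, coeff_setIdemC]
  rw [Finset.sum_congr rfl fun g _ => hdiag g, Finset.sum_const, Finset.card_univ, nsmul_eq_mul,
    ← Nat.card_eq_fintype_card, card_mul_blockCoeff_one] at htr
  exact_mod_cast htr.symm

/-- Independent translates of a block idempotent over the residue field are at most as many as the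
sum of the squared degrees. -/
theorem card_le_sum_sq {B : Set (IrrCharacter G)} (hB : IsBlockUnion M B) {ι : Type*} [Fintype ι]
    (w : ι → G) (h : LinearIndependent (Res M)
      fun i : ι => (idemBar M B hB : GA (Res M) G) * single (w i) 1) :
    Fintype.card ι ≤ ∑ᶠ χ ∈ B, Cfsg.charDegree (χ : G → ℂ) ^ 2 := by
  classical
  let V : G → ι → localRing M := fun g i => ⟨Cfsg.blockCoeff B (g * (w i)⁻¹), memLocalRing_blockCoeff hB _⟩
  have h1 : LinearIndependent (Res M) fun i : ι => fun g : G => red M (V g i) := by
    let L : GA (Res M) G →ₗ[Res M] (G → Res M) :=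
      { toFun := fun a g => a.coeff g
        map_add' := fun a b => by funext g; simp
        map_smul' := fun c a => by funext g; simp }
    have hL : Function.Injective L := fun a b hab => ga_ext fun g => congrFun hab g
    have he : (fun i : ι => fun g : G => red M (V g i)) =
        L ∘ fun i : ι => (idemBar M B hB : GA (Res M) G) * single (w i) 1 := by
      funext i g
      show red M (V g i) = ((idemBar M B hB : GA (Res M) G) * single (w i) 1).coeff g
      rw [MonoidAlgebra.coeff_mul_single_apply, mul_one, coeff_idemBar]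
    rw [he]
    exact h.map' L (LinearMap.ker_eq_bot.2 hL)
  have h2 := linearIndependent_lift V h1
  let W := LinearMap.range (LinearMap.mulLeft ℂ (setIdemC B : MonoidAlgebra ℂ G))
  haveI : Module.Finite ℂ (MonoidAlgebra ℂ G) :=
    Module.Finite.equiv (MonoidAlgebra.coeffLinearEquiv ℂ : MonoidAlgebra ℂ G ≃ₗ[ℂ] (G →₀ ℂ)).symm
  let v : ι → W := fun i => ⟨(setIdemC B : MonoidAlgebra ℂ G) * single (w i) 1, ⟨_, rfl⟩⟩
  have hv : LinearIndependent ℂ v := by
    let L : W →ₗ[ℂ] (G → ℂ) :=
      { toFun := fun a g => (a : MonoidAlgebra ℂ G).coeff g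
        map_add' := fun a b => by funext g; simp
        map_smul' := fun c a => by funext g; simp }
    refine LinearIndependent.of_comp L ?_
    convert h2 using 1
    funext i g
    show ((setIdemC B : MonoidAlgebra ℂ G) * single (w i) 1).coeff g = (V g i : ℂ)
    rw [MonoidAlgebra.coeff_mul_single_apply, mul_one, coeff_setIdemC]
  rw [← finrank_range_setIdemC B]
  exact hv.fintype_card_le_finrank

end CfsgLib.MinimalBlock
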