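import Cfsg.Agent.MinimalBlock.Basic

/-!
# The regular orbit of a block with minimal degree sum

For a block with defect group `D` and `∑ χ(1)² ≤ p^(2a-d)` the translates `f·o·u` of an orbit `O` of
the Sylow subgroup `P` are a basis of the block algebra permuted transitively by `P × P`; hence an
element normalizing `Q ≤ P` with the block surviving at `Q` acts on `Q` as an element of `P`.
-/

set_option autoImplicit false
set_option linter.unusedSectionVars false
set_option linter.style.haveILetI false

namespace CfsgLib.MinimalBlock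

open Cfsg CfsgLib.Blocks
open CfsgLib.BlockPairs (GA ga_ext cj)
open MonoidAlgebra (single)

universe u

section Independent

variable {F : Type*} [Field F] {G : Type*} [Group G] [Finite G] {p : ℕ} [Fact p.Prime] [CharP F p]

/-- A family permuted transitively by a p-group with nonzero sum is linearly independent. -/
theorem linearIndependent_of_transitive {A : Type*} [Group A] [Finite A] (hA : IsPGroup p A)
    {ι : Type*} [Fintype ι] [MulAction A ι] (htr : ∀ i j : ι, ∃ a : A, a • i = j)
    {W : Type*} [AddCommGroup W] [Module F W] (T : A → W →ₗ[F] W) (v : ι → W)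
    (hT : ∀ (a : A) (i : ι), T a (v i) = v (a • i)) (hsum : ∑ i, v i ≠ 0) :
    LinearIndependent F v := by
  classical
  rw [Fintype.linearIndependent_iff]
  by_contra hne
  push Not at hne
  obtain ⟨c, hc, i₀, hi₀⟩ := hne
  let act : DistribMulAction A (ι → F) :=
    { smul := fun a g i => g (a⁻¹ • i)
      one_smul := fun g => funext fun i => show g ((1 : A)⁻¹ • i) = g i by rw [inv_one, one_smul]
      mul_smul := fun a b g => funext fun i =>
        show g ((a * b)⁻¹ • i) = g (b⁻¹ • a⁻¹ • i) by rw [mul_inv_rev, mul_smul]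
      smul_zero := fun a => rfl
      smul_add := fun a g g' => rfl }
  letI := act
  let S : AddSubgroup (ι → F) :=
    { carrier := {g | ∑ i, g i • v i = 0}
      zero_mem' := by simp
      add_mem' := fun {g g'} hg hg' => by
        simp only [Set.mem_ofPred_eq, Pi.add_apply, add_smul, Finset.sum_add_distrib] at hg hg' ⊢
        rw [hg, hg', add_zero]
      neg_mem' := fun {g} hg => by
        simp only [Set.mem_ofPred_eq, Pi.neg_apply, neg_smul, Finset.sum_neg_distrib] at hg ⊢
        rw [hg, neg_zero] }
  have hstab : ∀ (a : A), ∀ g ∈ S, a • g ∈ S := by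
    intro a g (hg : ∑ i, g i • v i = 0)
    show ∑ i, g (a⁻¹ • i) • v i = 0
    have h1 : T a (∑ i, g i • v i) = ∑ i, g i • v (a • i) := by simp [map_sum, hT]
    rw [hg, map_zero] at h1
    rw [h1]
    exact Fintype.sum_equiv (MulAction.toPerm a⁻¹) _ _ fun i => by simp
  have hV : ∀ g : ι → F, p • g = 0 := fun g => by
    funext i
    simp [CharP.cast_eq_zero F p]
  obtain ⟨g, hg0, hgc, hgfix⟩ := BlockPairs.exists_fixed_ne_zero hA hV (v := c)
    (fun h => hi₀ (congrFun h i₀))
  have hgS : g ∈ S := (AddSubgroup.closure_le S).2 (by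
    rintro _ ⟨a, rfl⟩; exact hstab a c hc) hgc
  have hconst : ∀ i, g i = g i₀ := fun i => by
    obtain ⟨a, rfl⟩ := htr i₀ i
    have := congrFun (hgfix a) (a • i₀)
    rw [show (a • g) (a • i₀) = g (a⁻¹ • a • i₀) from rfl, inv_smul_smul] at this
    exact this.symm
  have h0 : g i₀ • ∑ i, v i = 0 := by
    rw [Finset.smul_sum]
    refine Eq.trans (Finset.sum_congr rfl fun i _ => by rw [hconst i]) (hgS : ∑ i, g i • v i = 0)
  exact hg0 (funext fun i => (hconst i).trans ((smul_eq_zero.1 h0).resolve_right hsum))

end Independent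

variable {G : Type u} [Group G] [Fintype G] {M : Ideal AlgInt} [M.IsPrime] {p : ℕ} [Fact p.Prime]

open Classical in
theorem sum_single_mul_eq_zero_of_invariant {F : Type*} [CommRing F] (P : Subgroup G) [Fintype P]
    {z : MonoidAlgebra F G} (hz : ∀ u : P, z * single (u : G) 1 = z) :
    z = ∑ g : G, (if (QuotientGroup.mk g : G ⧸ P).out = g then z.coeff g else 0) •
      ∑ u : P, single (g * u) (1 : F) := by
  classical
  refine MonoidAlgebra.ext (Finsupp.ext fun x => ?_)
  simp only [MonoidAlgebra.coeff_sum, MonoidAlgebra.coeff_smul, Finsupp.finsetSum_apply,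
    Finsupp.smul_apply, MonoidAlgebra.coeff_single, Finsupp.single_apply]
  set r := (QuotientGroup.mk x : G ⧸ P).out with hr
  have hrx : r⁻¹ * x ∈ P := QuotientGroup.eq.1 (QuotientGroup.out_eq' _)
  rw [Finset.sum_eq_single r]
  · rw [if_pos (by rw [hr, QuotientGroup.out_eq']), Finset.sum_eq_single (⟨r⁻¹ * x, hrx⟩ : P)]
    · have := congrArg (fun a : MonoidAlgebra F G => a.coeff x) (hz ⟨r⁻¹ * x, hrx⟩)
      simp only [MonoidAlgebra.coeff_mul_single_apply, mul_one] at this
      simpa using this.symm
    · intro u _ hu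
      exact if_neg fun h => hu (Subtype.ext (show (u : G) = r⁻¹ * x by rw [← h]; simp))
    · simp
  · intro g _ hg
    by_cases hgr : (QuotientGroup.mk g : G ⧸ P).out = g
    · rw [if_pos hgr, Finset.sum_eq_zero, smul_zero]
      intro u _
      refine if_neg fun h => hg ?_
      rw [hr, ← h, show (QuotientGroup.mk (g * u) : G ⧸ P) = QuotientGroup.mk g from
        QuotientGroup.eq.2 (by simp), hgr]
    · rw [if_neg hgr, zero_smul]
  · simp

/-- A block idempotent does not kill the sum over a p-subgroup. -/
theorem idem_mul_sum_ne_zero {F : Type*} [Field F] [CharP F p] (P : Subgroup G) [Fintype P]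
    (hP : IsPGroup p P) {f : MonoidAlgebra F G} (hf : f ∈ Ctr F G) (hff : f * f = f) (hf0 : f ≠ 0) :
    f * ∑ u : P, single (u : G) (1 : F) ≠ 0 := by
  classical
  intro h0
  let act : DistribMulAction P (MonoidAlgebra F G) :=
    { smul := fun u a => a * single ((u : G)⁻¹) 1
      one_smul := fun a => show a * single (((1 : P) : G)⁻¹) 1 = a by
        simp [← MonoidAlgebra.one_def]
      mul_smul := fun u v a => show a * single (((u * v : P) : G)⁻¹) 1 =
          a * single ((v : G)⁻¹) 1 * single ((u : G)⁻¹) 1 by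
        rw [mul_assoc, MonoidAlgebra.single_mul_single, one_mul, Subgroup.coe_mul, mul_inv_rev]
      smul_zero := fun u => zero_mul _
      smul_add := fun u a b => add_mul a b _ }
  letI := act
  obtain ⟨w, hw0, hwc, hwfix⟩ := BlockPairs.exists_fixed_ne_zero hP
    (fun a : MonoidAlgebra F G => by rw [← Nat.cast_smul_eq_nsmul F, CharP.cast_eq_zero F p, zero_smul])
    hf0
  have hfw : f * w = w := by
    clear hwfix hw0
    induction hwc using AddSubgroup.closure_induction with
    | mem x hx =>
      obtain ⟨u, rfl⟩ := hx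
      show f * (f * single ((u : G)⁻¹) 1) = f * single ((u : G)⁻¹) 1
      rw [← mul_assoc, hff]
    | zero => exact mul_zero f
    | add x y _ _ hx hy => rw [mul_add, hx, hy]
    | neg x _ hx => rw [mul_neg, hx]
  have hinv : ∀ u : P, w * single (u : G) 1 = w := fun u => by
    have := hwfix u⁻¹
    rwa [show (u⁻¹ : P) • w = w * single (((u⁻¹ : P) : G)⁻¹) 1 from rfl, Subgroup.coe_inv,
      inv_inv] at this
  refine hw0 ?_
  rw [← hfw, sum_single_mul_eq_zero_of_invariant P hinv, Finset.mul_sum]
  refine Finset.sum_eq_zero fun g _ => ?_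
  have hg : ∑ u : P, single (g * u) (1 : F) = single g 1 * ∑ u : P, single (u : G) 1 := by
    rw [Finset.mul_sum]
    simp [MonoidAlgebra.single_mul_single]
  rw [mul_smul_comm, hg, ← mul_assoc, ← Subring.mem_center_iff.1 hf (single g 1), mul_assoc, h0,
    mul_zero, smul_zero]

/-- In a block with minimal degree sum, an element normalizing `Q ≤ P` at which the block survives
acts on `Q` as an element of `P`. -/
theorem exists_mem_mul_inv_mem_centralizer (hM : Cfsg.IsPModular p M) {B : Set (IrrCharacter G)}
    (hB : Cfsg.IsPBlock M B) {D : Subgroup G} (hD : Cfsg.IsDefectGroup p M B D)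
    (hmin : (∑ᶠ χ ∈ B, Cfsg.charDegree (χ : G → ℂ) ^ 2) * Nat.card D ≤
      p ^ (2 * (Nat.card G).factorization p))
    (P : Sylow p G) {Q : Subgroup G} (hQP : Q ≤ (P : Subgroup G)) {c : G}
    (hc : c ∈ Subgroup.centralizer (Q : Set G))
    (hne : (idemBar M B (isBlockUnion_of_isPBlock hB) : GA (Res M) G).coeff c ≠ 0) {x : G}
    (hx : x ∈ Subgroup.normalizer (Q : Set G)) :
    ∃ u ∈ (P : Subgroup G), u * x⁻¹ ∈ Subgroup.centralizer (Q : Set G) := by
  classical
  haveI := charP_res hM
  have hU := isBlockUnion_of_isPBlock hB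
  set fc := idemBar M B hU with hfc
  set f := (fc : GA (Res M) G) with hf
  have hff : f * f = f := by rw [hf, ← Subring.coe_mul, idemBar_mul_self]
  have hf0 : f ≠ 0 := fun h => hne (by rw [h]; simp)
  set R := (P : Subgroup G) with hRdef
  haveI := Fintype.ofFinite R
  have hfP := idem_mul_sum_ne_zero R P.2 fc.2 hff hf0
  -- choose an orbit
  letI : MulAction R G := MulAction.compHom G (MulAut.conj.comp R.subtype)
  have hsm : ∀ (u : R) (g : G), u • g = (u : G) * g * (u : G)⁻¹ := fun u g => rfl
  set Ph := ∑ u : R, single (u : G) (1 : Res M) with hPh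
  obtain ⟨c₀, hc₀, horb⟩ : ∃ c₀ : G, f.coeff c₀ ≠ 0 ∧
      ∑ o : MulAction.orbit R c₀, f * single (o : G) (1 : Res M) * Ph ≠ 0 := by
    by_contra hno
    simp only [not_exists, not_and, not_not] at hno
    apply hfP
    have hsum : f * Ph = ∑ g : G, f.coeff g • (f * single g (1 : Res M) * Ph) := by
      have hfd : f = ∑ g : G, f.coeff g • single g (1 : Res M) := ga_ext fun y => by
        rw [MonoidAlgebra.coeff_sum, Finsupp.finsetSum_apply, Finset.sum_eq_single y]
        · simp
        · intro g _ hg; simp [hg]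
        · simp
      have hff2 : f = ∑ g : G, f.coeff g • (f * single g (1 : Res M)) := by
        conv_lhs => rw [← hff]; arg 2; rw [hfd]
        rw [Finset.mul_sum]
        simp only [mul_smul_comm]
      calc f * Ph = (∑ g : G, f.coeff g • (f * single g (1 : Res M))) * Ph := by rw [← hff2]
        _ = _ := by rw [Finset.sum_mul]; simp only [smul_mul_assoc]
    rw [hsum, Finset.sum_partition (MulAction.orbitRel R G)]
    refine Finset.sum_eq_zero fun q _ => ?_
    induction q using Quotient.inductionOn with
    | h a =>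
      have hset : Finset.univ.filter (fun g : G => Quotient.mk (MulAction.orbitRel R G) g =
          Quotient.mk _ a) = (MulAction.orbit R a).toFinset := by
        ext g
        simp only [Finset.mem_filter, Finset.mem_univ, true_and, Set.mem_toFinset]
        exact ⟨fun h => Quotient.eq''.1 h, fun h => Quotient.eq''.2 h⟩
      rw [hset]
      have hconst : ∀ g ∈ (MulAction.orbit R a).toFinset, f.coeff g = f.coeff a := by
        intro g hg
        obtain ⟨u, rfl⟩ := Set.mem_toFinset.1 hg
        exact coeff_conj_of_mem_ctr fc.2 a (u : G)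
      rw [Finset.sum_congr rfl fun g hg => by rw [hconst g hg], ← Finset.smul_sum]
      by_cases ha : f.coeff a = 0
      · rw [ha, zero_smul]
      · rw [← Finset.sum_coe_sort]
        refine smul_eq_zero.2 (Or.inr (Eq.trans ?_ (hno a ha)))
        exact Fintype.sum_equiv (Equiv.subtypeEquivRight fun g => Set.mem_toFinset) _ _ fun g => rfl
  -- the regular orbit
  set O := MulAction.orbit R c₀ with hO
  let v : O × R → GA (Res M) G := fun i => f * single ((i.1 : G) * (i.2 : G)) 1
  letI : MulAction (R × R) (O × R) :=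
    { smul := fun a i => (a.1 • i.1, a.1 * i.2 * a.2⁻¹)
      one_smul := fun i => Prod.ext (one_smul R i.1) (show (1 : R) * i.2 * (1 : R)⁻¹ = i.2 by simp)
      mul_smul := fun a b i => Prod.ext (mul_smul a.1 b.1 i.1)
        (show a.1 * b.1 * i.2 * (a.2 * b.2)⁻¹ = a.1 * (b.1 * i.2 * b.2⁻¹) * a.2⁻¹ by group) }
  have hA : IsPGroup p (R × R) := by
    obtain ⟨n, hn⟩ := IsPGroup.iff_card.1 P.2
    exact IsPGroup.of_card (n := n + n) (by rw [Nat.card_prod, pow_add]; exact congrArg₂ _ hn hn)
  have hcent : ∀ a : GA (Res M) G, a * f = f * a := fun a => Subring.mem_center_iff.1 fc.2 a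
  have hv : LinearIndependent (Res M) v := by
    refine linearIndependent_of_transitive hA ?_
      (fun a => (LinearMap.mulLeft (Res M) (single ((a.1 : R) : G) 1)).comp
        (LinearMap.mulRight (Res M) (single (((a.2 : R) : G)⁻¹) 1))) v ?_ ?_
    · intro i j
      obtain ⟨a, ha⟩ := MulAction.exists_smul_eq R i.1 j.1
      refine ⟨(a, j.2⁻¹ * a * i.2), Prod.ext ha ?_⟩
      show a * i.2 * (j.2⁻¹ * a * i.2)⁻¹ = j.2
      group
    · intro a i
      show single ((a.1 : R) : G) 1 * (v i * single (((a.2 : R) : G)⁻¹) 1) = v (a • i)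
      simp only [v]
      rw [← mul_assoc, ← mul_assoc, hcent, mul_assoc, mul_assoc, MonoidAlgebra.single_mul_single,
        MonoidAlgebra.single_mul_single, one_mul, one_mul]
      congr 2
      show _ = (((a.1 • i.1 : O) : G)) * (((a.1 * i.2 * a.2⁻¹ : R)) : G)
      rw [MulAction.orbit.coe_smul, hsm]
      simp [mul_assoc]
    · rw [Fintype.sum_prod_type]
      refine fun h => horb (Eq.trans (Finset.sum_congr rfl fun o _ => ?_) h)
      simp only [v, hPh, Finset.mul_sum]
      refine Finset.sum_congr rfl fun u _ => ?_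
      rw [mul_assoc, MonoidAlgebra.single_mul_single, one_mul]
  -- the dimension count: the translates are a basis
  have hcard : Nat.card O * Nat.card R * Nat.card D ≥ p ^ (2 * (Nat.card G).factorization p) := by
    let S := MulAction.stabilizer R c₀
    have hS : (S.map R.subtype) ≤ Subgroup.centralizer ({c₀} : Set G) := by
      rintro _ ⟨u, hu, rfl⟩
      rw [Subgroup.mem_centralizer_singleton_iff]
      have := MulAction.mem_stabilizer_iff.1 hu
      rw [hsm] at this
      exact mul_inv_eq_iff_eq_mul.1 this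
    obtain ⟨y, hy⟩ := IsDefectGroup.domBy hM hB hD (S.map R.subtype) ((P.2.to_subgroup S).map _) c₀
      (le_centralizer_singleton_iff.1 hS) hc₀
    have hSD : Nat.card S ≤ Nat.card D := by
      rw [← Subgroup.card_map_of_injective R.subtype_injective (K := S),
        ← BlockPairs.card_cj y (S.map R.subtype)]
      exact Subgroup.card_le_of_le hy
    have horbit : Nat.card O * Nat.card S = Nat.card R := by
      rw [hO, ← Nat.card_prod]
      exact Nat.card_congr (MulAction.orbitProdStabilizerEquivGroup R c₀)
    have hRc : Nat.card R = p ^ (Nat.card G).factorization p := P.card_eq_multiplicity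
    calc p ^ (2 * (Nat.card G).factorization p) = Nat.card R * Nat.card R := by
          rw [hRc, two_mul, pow_add]
      _ = Nat.card O * Nat.card R * Nat.card S := by
          conv_lhs => arg 2; rw [← horbit]
          ring
      _ ≤ Nat.card O * Nat.card R * Nat.card D := Nat.mul_le_mul_left _ hSD
  have hspan : ∀ a : GA (Res M) G, f * a ∈ Submodule.span (Res M) (Set.range v) := by
    intro a
    by_contra ha

    obtain ⟨g, hg⟩ : ∃ g, f * single g (1 : Res M) ∉ Submodule.span (Res M) (Set.range v) := by
      by_contra hall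
      push Not at hall
      apply ha
      have had : a = ∑ g : G, a.coeff g • single g (1 : Res M) := ga_ext fun y => by
        rw [MonoidAlgebra.coeff_sum, Finsupp.finsetSum_apply, Finset.sum_eq_single y]
        · simp
        · intro g _ hg; simp [hg]
        · simp
      rw [had, Finset.mul_sum]
      exact Submodule.sum_mem _ fun g _ => by
        rw [mul_smul_comm]; exact Submodule.smul_mem _ _ (hall g)
    have hext' : LinearIndependent (Res M) (fun o : Option (O × R) =>
        f * single (o.casesOn' g fun i => (i.1 : G) * (i.2 : G)) 1) := by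
      have := LinearIndependent.option hv hg
      have heq : (fun o : Option (O × R) => f * single (o.casesOn' g fun i => (i.1 : G) * (i.2 : G)) 1) =
          fun o : Option (O × R) => o.casesOn' (f * single g 1) v := by
        funext o
        cases o <;> rfl
      rw [heq]
      exact this
    have h := card_le_sum_sq hU _ hext'
    rw [Fintype.card_option, Fintype.card_prod, ← Nat.card_eq_fintype_card,
      ← Nat.card_eq_fintype_card] at h
    have h' := Nat.mul_le_mul_right (Nat.card D) h
    have hDpos : 0 < Nat.card D := Nat.card_pos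
    rw [Nat.add_mul, one_mul] at h'
    omega
  -- the twisted fixed points
  obtain ⟨lam, hlam⟩ := (Submodule.mem_span_range_iff_exists_fun (Res M)).1 (hspan (single x 1))
  have hfx : (f * single x (1 : Res M)).coeff (c * x) ≠ 0 := by
    rw [MonoidAlgebra.coeff_mul_single_apply, mul_one, mul_inv_cancel_right]
    exact hne
  haveI := Fintype.ofFinite Q
  have hq' : ∀ q : Q, x⁻¹ * (q : G) * x ∈ Q := fun q => by
    simpa using ((Subgroup.mem_normalizer_iff).1 (Subgroup.inv_mem _ hx) (q : G)).1 q.2
  let φ : Q →* R × R :=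
    { toFun := fun q => (⟨q, hQP q.2⟩, ⟨x⁻¹ * q * x, hQP (hq' q)⟩)
      map_one' := Prod.ext rfl (Subtype.ext (by simp))
      map_mul' := fun q r => Prod.ext rfl (Subtype.ext (by simp [mul_assoc])) }
  letI : MulAction Q (O × R) := MulAction.compHom _ φ
  have hlaminv : ∀ (q : Q) (i : O × R), lam (q • i) = lam i := by
    intro q
    have hfix : ∑ i, lam i • v (q • i) = ∑ i, lam i • v i := by
      have h1 : single (q : G) (1 : Res M) * (f * single x 1) * single ((x⁻¹ * q * x)⁻¹) 1 =
          f * single x (1 : Res M) := by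
        rw [← mul_assoc, hcent, mul_assoc, mul_assoc, ← mul_assoc (single (q : G) (1 : Res M)),
          MonoidAlgebra.single_mul_single, MonoidAlgebra.single_mul_single]
        congr 2
        · group
        · simp
      rw [← hlam, Finset.mul_sum, Finset.sum_mul] at h1
      refine Eq.trans (Finset.sum_congr rfl fun i _ => ?_) h1
      rw [mul_smul_comm, smul_mul_assoc]
      congr 1
      simp only [v]
      rw [← mul_assoc, hcent, mul_assoc, mul_assoc, MonoidAlgebra.single_mul_single,
        MonoidAlgebra.single_mul_single, one_mul, one_mul]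
      congr 2
      show (((φ q).1 • i.1 : O) : G) * (((φ q).1 * i.2 * (φ q).2⁻¹ : R) : G) = _
      rw [MulAction.orbit.coe_smul, hsm]
      simp [φ, mul_assoc]
    intro i
    have h2 : ∑ j, lam (q⁻¹ • j) • v j = ∑ j, lam j • v j := by
      rw [← hfix]
      exact Fintype.sum_equiv (MulAction.toPerm q⁻¹) _ _ fun j => by simp
    have := Fintype.linearIndependent_iffₛ.1 hv _ _ h2 (q • i)
    rw [inv_smul_smul] at this
    exact this.symm
  have hev : (f * single x (1 : Res M)).coeff (c * x) =
      ∑ i, lam i * (v i).coeff (c * x) := by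
    rw [← hlam, MonoidAlgebra.coeff_sum, Finsupp.finsetSum_apply]
    simp
  have hvinv : ∀ (q : Q) (i : O × R), (v (q • i)).coeff (c * x) = (v i).coeff (c * x) := by
    intro q i
    simp only [v, MonoidAlgebra.coeff_mul_single_apply, mul_one]
    show f.coeff (c * x * ((((φ q).1 • i.1 : O) : G) * (((φ q).1 * i.2 * (φ q).2⁻¹ : R) : G))⁻¹) = _
    rw [MulAction.orbit.coe_smul, hsm]
    have hcq : (q : G) * c = c * (q : G) := Subgroup.mem_centralizer_iff.1 hc q q.2
    have he : c * x * ((q : G) * (i.1 : G) * (q : G)⁻¹ * ((q : G) * (i.2 : G) * (x⁻¹ * q * x)⁻¹))⁻¹ =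
        (q : G) * (c * x * ((i.1 : G) * (i.2 : G))⁻¹) * (q : G)⁻¹ := by
      simp only [mul_inv_rev, inv_inv]
      calc c * x * (x⁻¹ * q * x * ((i.2 : G)⁻¹ * (q : G)⁻¹) * (q * ((i.1 : G)⁻¹ * (q : G)⁻¹)))
          = c * (q : G) * (x * ((i.2 : G)⁻¹ * (i.1 : G)⁻¹)) * (q : G)⁻¹ := by group
        _ = (q : G) * (c * x * ((i.2 : G)⁻¹ * (i.1 : G)⁻¹)) * (q : G)⁻¹ := by rw [← hcq]; group
    simp only [φ, MonoidHom.coe_mk, OneHom.coe_mk, Subgroup.coe_mul, Subgroup.coe_inv]
    rw [he]
    exact coeff_conj_of_mem_ctr fc.2 _ _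
  have hQp : IsPGroup p Q := P.2.to_le hQP
  obtain ⟨i, hi⟩ : ∃ i : O × R, ∀ q : Q, q • i = i := by
    by_contra hno
    apply hfx
    rw [hev, BlockPairs.sum_eq_sum_fixed hQp
      (fun z : Res M => by simp [CharP.cast_eq_zero (Res M) p]) _
      (fun q i => by rw [hlaminv, hvinv]), Finset.sum_eq_zero]
    intro i hi
    exact absurd ⟨i, (Finset.mem_filter.1 hi).2⟩ hno
  refine ⟨(i.2 : G), i.2.2, Subgroup.mem_centralizer_iff.2 fun q hq => ?_⟩
  have h := congrArg (fun j : O × R => (j.2 : G)) (hi ⟨q, hq⟩)
  rw [show (((⟨q, hq⟩ : Q) • i).2 : G) = q * (i.2 : G) * (x⁻¹ * q * x)⁻¹ from by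
    show (((φ ⟨q, hq⟩).1 * i.2 * (φ ⟨q, hq⟩).2⁻¹ : R) : G) = _
    simp [φ]] at h
  have h2 : q * (i.2 : G) = (i.2 : G) * (x⁻¹ * q * x) := mul_inv_eq_iff_eq_mul.1 h
  calc q * ((i.2 : G) * x⁻¹) = q * (i.2 : G) * x⁻¹ := by group
    _ = (i.2 : G) * x⁻¹ * q := by rw [h2]; group

end CfsgLib.MinimalBlock
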